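import Groth.Agent.Gabber14.Terms
import Groth.Agent.SerreDual.QCohCat
import Groth.Agent.Coherent.HigherQcoh
import Groth.Agent.QCohAff14.Chart

/-!
# The coherator and injectives in quasi-coherent modules on an arbitrary scheme
-/

set_option autoImplicit false
set_option linter.style.haveILetI false
set_option linter.unusedSectionVars false
set_option backward.isDefEq.respectTransparency.types false

universe u

open CategoryTheory CategoryTheory.Limits AlgebraicGeometry Opposite TopologicalSpace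
open Groth.Agent.Coherent

namespace Groth.Agent.Gabber14

variable (X : Scheme.{u})

/-- The quasi-coherent submodule spanned by the terms. -/
noncomputable def subQ (M : QCohCat.QCoh X) (U₀ : X.affineOpens) (s : Γ(M.obj, U₀.1)) : QCohCat.QCoh X :=
  haveI : Coh.IsQCoh M.obj := M.property
  ⟨(sub M.obj s).toMod, isQCoh_sub M.obj s⟩

/-- Modules spanned by terms. -/
def IsSmallQ : ObjectProperty (QCohCat.QCoh X) := fun G =>
  ∃ U₀ : X.affineOpens, ∀ U : X.affineOpens,
    ∃ q : (Term U₀ U →₀ Γ(X, U.1)) →ₗ[Γ(X, U.1)] Γ(G.obj, U.1), Function.Surjective q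

theorem isSeparating : (IsSmallQ X).IsSeparating := by
  intro M N f g h
  refine ObjectProperty.hom_ext _ (Scheme.Modules.hom_ext _ _ fun V => ConcreteCategory.hom_ext _ _ fun s => ?_)
  haveI : Coh.IsQCoh M.obj := M.property
  refine TopCat.Sheaf.eq_of_locally_eq'
    (⟨N.obj.presheaf, N.obj.isSheaf⟩ : TopCat.Sheaf AddCommGrpCat.{u} X.toPresheafedSpace.carrier)
    (fun U : {U : X.affineOpens // U.1 ≤ V} => U.1.1) V (fun U => homOfLE U.2) (fun x hx => ?_) _ _ fun U => ?_
  · obtain ⟨U, hU, hxU⟩ := exists_affine_le hx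
    exact TopologicalSpace.Opens.mem_iSup.2 ⟨⟨U, hU⟩, hxU⟩
  let s' := resM M.obj U.2 s
  let G : QCohCat.QCoh X := subQ X M U.1 s'
  let k : G ⟶ M := ObjectProperty.homMk (sub M.obj s').toι
  have hG : IsSmallQ X G := ⟨U.1, fun W => by
    choose t ht using fun a : Γ((sub M.obj s').toMod, W.1) => surjective_term M.obj s' W a
    let v : Term U.1 W → Γ((sub M.obj s').toMod, W.1) := fun τ =>
      ⟨eval M.obj s' τ, (mem_span_iff M.obj s' W _).2 ⟨τ, rfl⟩⟩
    refine ⟨Finsupp.linearCombination Γ(X, W.1) v, fun a => ⟨Finsupp.single (t a) 1, ?_⟩⟩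
    rw [Finsupp.linearCombination_single, one_smul]
    exact (sub M.obj s').toι_injective _ (ht a)⟩
  have e := congrArg (fun z : G ⟶ N => z.hom.app U.1.1 ⟨s', mem_sub M.obj s'⟩) (h G hG k)
  show resM N.obj U.2 (f.hom.app V s) = resM N.obj U.2 (g.hom.app V s)
  rw [← app_resM, ← app_resM]
  exact e

set_option backward.isDefEq.respectTransparency false in
theorem essentiallySmall : ObjectProperty.EssentiallySmall.{u} (IsSmallQ X) := by
  classical
  let KT := Σ U₀ : X.affineOpens, ∀ U : X.affineOpens, Submodule Γ(X, U.1) (Term U₀ U →₀ Γ(X, U.1))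
  let Tm : KT → X.affineOpens → X.Modules := fun K U =>
    QCohAff14.chartPush U.2 (ModuleCat.of Γ(X, U.1) ((Term K.1 U →₀ Γ(X, U.1)) ⧸ K.2 U))
  let B : KT → X.Modules := fun K => ∏ᶜ Tm K
  let idx := Σ K : KT, Shrink.{u} (Subobject (B K))
  let Idx := {a : idx // Coh.IsQCoh (((equivShrink _).symm a.2 : Subobject (B a.1)) : X.Modules)}
  let E : Idx → QCohCat.QCoh X := fun a => ⟨(((equivShrink _).symm a.1.2 : Subobject (B a.1.1)) : X.Modules), a.2⟩
  refine ⟨⟨ObjectProperty.ofObj E, inferInstance, fun G hG => ?_⟩⟩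
  haveI : Coh.IsQCoh G.obj := G.property
  obtain ⟨U₀, hq⟩ := hG
  choose q hqs using hq
  let K : KT := ⟨U₀, fun U => LinearMap.ker (q U)⟩
  have hiso : ∀ U : X.affineOpens, Nonempty (G.obj.restrict U.2.fromSpec ≅
      tilde (ModuleCat.of Γ(X, U.1) ((Term U₀ U →₀ Γ(X, U.1)) ⧸ LinearMap.ker (q U)))) := fun U => by
    haveI := Flatn12.isQCoh_restrict_fromSpec' G.obj U.2
    obtain ⟨N, L, eT⟩ : Σ' (N : ModuleCat.{u} Γ(X, U.1)) (_ : N ≃ₗ[Γ(X, U.1)] Γ(G.obj, U.1)),
        tilde N ≅ G.obj.restrict U.2.fromSpec :=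
      ⟨moduleSpecΓFunctor.obj (G.obj.restrict U.2.fromSpec), Flatn12.secEquiv U.2 G.obj,
        asIso (G.obj.restrict U.2.fromSpec).fromTildeΓ⟩
    exact ⟨eT.symm ≪≫ (tilde.functor Γ(X, U.1)).mapIso
      ((L.trans ((q U).quotKerEquivOfSurjective (hqs U)).symm).toModuleIso)⟩
  let w := fun U => (hiso U).some
  let u₀ : G.obj ⟶ B K := Pi.lift fun U : X.affineOpens =>
    (Scheme.Modules.restrictAdjunction U.2.fromSpec).unit.app G.obj ≫
      (Scheme.Modules.pushforward U.2.fromSpec).map (w U).hom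
  haveI : Mono u₀ := by
    refine Preadditive.mono_of_cancel_zero _ fun {P} g hg => ?_
    refine Scheme.Modules.hom_ext _ _ fun V => ConcreteCategory.hom_ext _ _ fun a => ?_
    refine TopCat.Sheaf.eq_of_locally_eq'
      (⟨G.obj.presheaf, G.obj.isSheaf⟩ : TopCat.Sheaf AddCommGrpCat.{u} X.toPresheafedSpace.carrier)
      (fun U : X.affineOpens => U.2.fromSpec ''ᵁ U.2.fromSpec ⁻¹ᵁ V) V
      (fun U => homOfLE (U.2.fromSpec.image_preimage_le V)) (fun x hx => ?_) _ _ fun U => ?_
    · obtain ⟨U, -, hxU⟩ := exists_affine_le hx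
      refine TopologicalSpace.Opens.mem_iSup.2 ⟨U, ?_⟩
      rw [Scheme.Hom.image_preimage_eq_opensRange_inf, IsAffineOpen.opensRange_fromSpec]
      exact ⟨hxU, hx⟩
    · have h1 := congrArg (fun z => z ≫ Pi.π (Tm K) U) hg
      simp only [u₀, B, Category.assoc, Pi.lift_π, zero_comp] at h1
      rw [← Category.assoc] at h1
      have h1' : g ≫ (Scheme.Modules.restrictAdjunction U.2.fromSpec).unit.app G.obj = 0 :=
        (cancel_mono ((Scheme.Modules.pushforward U.2.fromSpec).map (w U).hom)).1 (h1.trans zero_comp.symm)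
      have h2 := congrArg (fun z => z.app V a) h1'
      exact h2.trans (map_zero _).symm
  refine ⟨E ⟨⟨K, equivShrink _ (Subobject.mk u₀)⟩, ?_⟩, ⟨_⟩, ⟨?_⟩⟩
  · simp only [Equiv.symm_apply_apply]
    exact isQCoh_of_iso (Subobject.underlyingIso u₀).symm
  · refine (QCohCat.isQCoh X).isoMk ?_
    exact (Subobject.underlyingIso u₀).symm ≪≫ eqToIso (by simp [E])

theorem isLeftAdjoint_ι : ((QCohCat.isQCoh X).ι).IsLeftAdjoint := by
  haveI := essentiallySmall X
  haveI := SerreDual.wellPowered_qcoh_op X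
  obtain ⟨Q, hQ, hQle, hle⟩ := ObjectProperty.EssentiallySmall.exists_small_le (IsSmallQ X)
  refine isLeftAdjoint_of_preservesColimits_of_isSeparating (P := Q) ?_ _
  intro M N f g h
  refine isSeparating X f g fun G hG k => ?_
  obtain ⟨G', hG', ⟨i⟩⟩ := hle G hG
  have := h G' hG' (i.inv ≫ k)
  rwa [Category.assoc, Category.assoc, cancel_epi] at this

theorem enoughInjectives : EnoughInjectives (QCohCat.QCoh X) := by
  haveI := isLeftAdjoint_ι X
  let adj := Adjunction.ofIsLeftAdjoint (QCohCat.isQCoh X).ι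
  haveI : (QCohCat.isQCoh X).ι.PreservesMonomorphisms := ⟨fun {A B} f hf =>
    Preadditive.mono_of_isZero_kernel _ (by
      haveI : Coh.IsQCoh A.obj := A.property
      haveI : Coh.IsQCoh B.obj := B.property
      let K : QCohCat.QCoh X := ⟨kernel f.hom, isQCoh_kernel f.hom⟩
      have hk : (ObjectProperty.homMk (kernel.ι f.hom) : K ⟶ A) = 0 := hf.1 _ 0 (by
        rw [zero_comp]
        exact ObjectProperty.hom_ext _ (kernel.condition f.hom))
      exact IsZero.of_mono_eq_zero (kernel.ι f.hom) (congrArg (fun z : K ⟶ A => z.hom) hk))⟩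
  refine ⟨fun M => ?_⟩
  haveI := Functor.preservesInjectiveObjects_of_adjunction_of_preservesMonomorphisms adj
  refine ⟨⟨_, Functor.injective_obj_of_injective (Functor.rightAdjoint (QCohCat.isQCoh X).ι) inferInstance,
    adj.homEquiv _ _ (Injective.ι ((QCohCat.isQCoh X).ι.obj M)), ?_⟩⟩
  refine (QCohCat.isQCoh X).ι.mono_of_mono_map ?_
  have h : (QCohCat.isQCoh X).ι.map (adj.homEquiv _ _ (Injective.ι ((QCohCat.isQCoh X).ι.obj M))) ≫
      adj.counit.app _ = Injective.ι ((QCohCat.isQCoh X).ι.obj M) := by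
    exact (adj.homEquiv_counit _ _ _).symm.trans (Equiv.symm_apply_apply _ _)
  haveI : Mono ((QCohCat.isQCoh X).ι.map (adj.homEquiv _ _ (Injective.ι ((QCohCat.isQCoh X).ι.obj M))) ≫
      adj.counit.app _) := by rw [h]; infer_instance
  exact mono_of_mono _ (adj.counit.app _)

end Groth.Agent.Gabber14
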