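import Groth.Agent.Coherent.SubFTMod
import Groth.Agent.Coherent.SubFTApps

/-!
# Small quasi-coherent submodules on an arbitrary scheme

A quasi-coherent submodule containing a given section is spanned, over each affine open, by the values
of terms built from restriction and from clearing denominators; the terms do not depend on the module.
-/

set_option autoImplicit false
set_option linter.style.haveILetI false
set_option backward.isDefEq.respectTransparency.types false

universe u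

open CategoryTheory CategoryTheory.Limits AlgebraicGeometry Opposite TopologicalSpace
open Groth.Agent.Coherent

namespace Groth.Agent.Gabber14

variable {X : Scheme.{u}}

/-- Terms over affine opens, starting from one section over `U₀`. -/
inductive Term (U₀ : X.affineOpens) : X.affineOpens → Type u
  | gen : Term U₀ U₀
  | zero (U : X.affineOpens) : Term U₀ U
  | add {U : X.affineOpens} (a b : Term U₀ U) : Term U₀ U
  | smul {U : X.affineOpens} (r : Γ(X, U.1)) (a : Term U₀ U) : Term U₀ U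
  | res {U : X.affineOpens} (V : X.affineOpens) (h : V.1 ≤ U.1) (a : Term U₀ U) : Term U₀ V
  | lift (U : X.affineOpens) (g : Γ(X, U.1)) (a : Term U₀ ⟨X.basicOpen g, U.2.basicOpen g⟩) : Term U₀ U

variable (M : X.Modules) [Coh.IsQCoh M] {U₀ : X.affineOpens} (s : Γ(M, U₀.1))

/-- Clearing a denominator. -/
noncomputable def liftSec (U : X.affineOpens) (g : Γ(X, U.1)) (a : Γ(M, X.basicOpen g)) : Γ(M, U.1) :=
  (qcoh_exists_pow_smul U.2 M g a).choose_spec.choose

/-- The value of a term. -/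
noncomputable def eval : {U : X.affineOpens} → Term U₀ U → Γ(M, U.1)
  | _, .gen => s
  | _, .zero _ => 0
  | _, .add a b => eval a + eval b
  | _, .smul r a => r • eval a
  | _, .res _ h a => resM M h (eval a)
  | _, .lift U g a => liftSec M U g (eval a)

/-- The values of terms over an affine open. -/
noncomputable def span (U : X.affineOpens) : Submodule Γ(X, U.1) Γ(M, U.1) where
  carrier := Set.range (eval M s (U := U))
  zero_mem' := ⟨.zero U, rfl⟩
  add_mem' := by rintro _ _ ⟨a, rfl⟩ ⟨b, rfl⟩; exact ⟨.add a b, rfl⟩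
  smul_mem' := by rintro r _ ⟨a, rfl⟩; exact ⟨.smul r a, rfl⟩

/-- The local property. -/
def LocMem (W : X.Opens) (a : Γ(M, W)) : Prop :=
  ∀ y ∈ W, ∃ (V : X.affineOpens) (h : V.1 ≤ W), y ∈ V.1 ∧ resM M h a ∈ span M s V

theorem res_mem {U V : X.affineOpens} (h : V.1 ≤ U.1) {a : Γ(M, U.1)} (ha : a ∈ span M s U) :
    resM M h a ∈ span M s V := by
  obtain ⟨t, rfl⟩ := ha
  exact ⟨.res V h t, rfl⟩

theorem exists_affine_le {W : X.Opens} {y : X} (hy : y ∈ W) : ∃ V : X.affineOpens, V.1 ≤ W ∧ y ∈ V.1 := by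
  obtain ⟨V, hV, hyV, hVW⟩ := Opens.isBasis_iff_nbhd.mp X.isBasis_affineOpens hy
  exact ⟨⟨V, hV⟩, hVW, hyV⟩

theorem locMem_common {W : X.Opens} {a b : Γ(M, W)} (ha : LocMem M s W a) (hb : LocMem M s W b) {y : X}
    (hy : y ∈ W) : ∃ (V : X.affineOpens) (h : V.1 ≤ W), y ∈ V.1 ∧ resM M h a ∈ span M s V ∧ resM M h b ∈ span M s V := by
  obtain ⟨V, h, hyV, m⟩ := ha y hy
  obtain ⟨V', h', hyV', m'⟩ := hb y hy
  obtain ⟨V'', hle, hy''⟩ := exists_affine_le (show y ∈ V.1 ⊓ V'.1 from ⟨hyV, hyV'⟩)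
  have hA : V''.1 ≤ V.1 := hle.trans inf_le_left
  have hB : V''.1 ≤ V'.1 := hle.trans inf_le_right
  refine ⟨V'', hA.trans h, hy'', ?_, ?_⟩
  · have := res_mem M s hA m
    rwa [resM_resM] at this
  · have := res_mem M s hB m'
    rwa [resM_resM] at this

/-- The submodule. -/
noncomputable def sub : SubM M where
  carrier W :=
    { carrier := {a | LocMem M s W a}
      zero_mem' := fun y hy => by
        obtain ⟨V, h, hyV⟩ := exists_affine_le hy
        exact ⟨V, h, hyV, by rw [map_zero]; exact zero_mem _⟩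
      add_mem' := fun {a b} ha hb y hy => by
        obtain ⟨V, h, hyV, m, m'⟩ := locMem_common M s ha hb hy
        exact ⟨V, h, hyV, by rw [map_add]; exact add_mem m m'⟩
      smul_mem' := fun c a ha y hy => by
        obtain ⟨V, h, hyV, m⟩ := ha y hy
        exact ⟨V, h, hyV, by rw [resM_smul]; exact Submodule.smul_mem _ _ m⟩ }
  res {W W'} h {a} ha y hy := by
    obtain ⟨V, hV, hyV, m⟩ := ha y (h hy)
    obtain ⟨V', hle, hyV'⟩ := exists_affine_le (show y ∈ V.1 ⊓ W' from ⟨hyV, hy⟩)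
    refine ⟨V', hle.trans inf_le_right, hyV', ?_⟩
    have := res_mem M s (hle.trans inf_le_left : V'.1 ≤ V.1) m
    rw [resM_resM] at this
    rwa [resM_resM]
  of_local {W} a ha y hy := by
    obtain ⟨W', h, hy', m⟩ := ha y hy
    obtain ⟨V, hV, hyV, m'⟩ := m y hy'
    refine ⟨V, hV.trans h, hyV, ?_⟩
    rwa [resM_resM] at m'

/-- Local membership at a basic open gives membership up to a power. -/
theorem exists_pow_smul_mem (V : X.affineOpens) (t : Γ(M, V.1)) (f : Γ(X, V.1))
    (h : LocMem M s (X.basicOpen f) (resM M (X.basicOpen_le f) t)) : ∃ n : ℕ, f ^ n • t ∈ span M s V := by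
  let J : Ideal Γ(X, V.1) := (span M s V).comap (LinearMap.toSpanSingleton Γ(X, V.1) Γ(M, V.1) t)
  suffices hf : f ∈ J.radical from hf
  rw [Ideal.radical_eq_sInf, Submodule.mem_sInf]
  rintro p ⟨hJp, hp⟩
  by_contra hfp
  let q : PrimeSpectrum Γ(X, V.1) := ⟨p, hp⟩
  have hbasic : ∀ g : Γ(X, V.1), V.2.fromSpec q ∈ X.basicOpen g ↔ g ∉ p := fun g => by
    have := V.2.fromSpec_preimage_basicOpen g
    exact (SetLike.ext_iff.1 this q)
  have hxf : V.2.fromSpec q ∈ X.basicOpen f := (hbasic f).2 hfp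
  obtain ⟨W, hW, hxW, hm⟩ := h _ hxf
  rw [resM_resM] at hm
  obtain ⟨g, hgW, hxg⟩ := V.2.exists_basicOpen_le ⟨_, hxW⟩ (X.basicOpen_le f hxf)
  let D : X.affineOpens := ⟨X.basicOpen g, V.2.basicOpen g⟩
  have hm1 : resM M (X.basicOpen_le g) t ∈ span M s D := by
    have := res_mem M s (V := D) hgW hm
    rwa [resM_resM] at this
  obtain ⟨τ, hτ⟩ := hm1
  have hlift := (qcoh_exists_pow_smul V.2 M g (resM M (X.basicOpen_le g) t)).choose_spec.choose_spec
  set n := (qcoh_exists_pow_smul V.2 M g (resM M (X.basicOpen_le g) t)).choose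
  set w : Γ(M, V.1) := liftSec M V g (resM M (X.basicOpen_le g) t)
  have hw : w ∈ span M s V := ⟨.lift V g τ, by show liftSec M V g (eval M s τ) = w; rw [hτ]⟩
  obtain ⟨k, hk⟩ := qcoh_exists_pow_smul_eq_zero V.2 M g (w - g ^ n • t) (by
    rw [map_sub, resM_smul, sub_eq_zero]
    exact hlift)
  have hmem : g ^ (k + n) ∈ J := by
    show g ^ (k + n) • t ∈ span M s V
    rw [smul_sub, sub_eq_zero] at hk
    rw [pow_add, mul_smul, ← hk]
    exact Submodule.smul_mem _ _ hw
  exact (hbasic g).1 hxg (hp.mem_of_pow_mem _ (hJp hmem))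

theorem mem_span_iff (V : X.affineOpens) (a : Γ(M, V.1)) : a ∈ (sub M s).carrier V.1 ↔ a ∈ span M s V := by
  refine ⟨fun ha => ?_, fun ha y hy => ⟨V, le_rfl, hy, res_mem M s le_rfl ha⟩⟩
  obtain ⟨n, hn⟩ := exists_pow_smul_mem M s V a 1 fun y hy => by
    obtain ⟨W, hW, hyW, m⟩ := (sub M s).res (X.basicOpen_le (1 : Γ(X, V.1))) ha y hy
    exact ⟨W, hW, hyW, m⟩
  rwa [one_pow, one_smul] at hn

theorem isQCoh_sub : Coh.IsQCoh (sub M s).toMod := by
  refine isQCoh_of_localizesOn _ (fun U : X.affineOpens => U.1) (fun U => U.2)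
    (fun x => by obtain ⟨V, -, hx⟩ := exists_affine_le (Opens.mem_top x); exact ⟨V, hx⟩)
    fun U => ⟨fun f a => ?_, fun f a ha => ?_⟩
  · obtain ⟨n, t, ht⟩ := qcoh_exists_pow_smul U.2 M f ((sub M s).toι.app _ a)
    obtain ⟨m, hm⟩ := exists_pow_smul_mem M s U t f (by
      rw [ht]
      exact Submodule.smul_mem ((sub M s).carrier (X.basicOpen f)) _ a.2)
    refine ⟨m + n, ⟨f ^ m • t, (mem_span_iff M s U _).2 hm⟩, (sub M s).toι_injective _ ?_⟩
    rw [app_resM, (sub M s).toι_smul]
    show resM M (X.basicOpen_le f) (f ^ m • t) = _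
    rw [resM_smul, ht, smul_smul, ← map_mul, ← pow_add]
  · obtain ⟨n, hn⟩ := qcoh_exists_pow_smul_eq_zero U.2 M f ((sub M s).toι.app _ a)
      (by rw [← app_resM, ha, map_zero])
    exact ⟨n, (sub M s).toι_injective _ (by rw [(sub M s).toι_smul, hn, map_zero])⟩

theorem mem_sub : s ∈ (sub M s).carrier U₀.1 := (mem_span_iff M s U₀ s).2 ⟨.gen, rfl⟩

theorem surjective_term (U : X.affineOpens) (a : Γ((sub M s).toMod, U.1)) :
    ∃ t : Term U₀ U, eval M s t = (sub M s).toι.app U.1 a :=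
  (mem_span_iff M s U _).1 a.2

end Groth.Agent.Gabber14
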